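import Mathlib

set_option autoImplicit false

namespace Cfsg.Agent.Helper28

theorem sylow_orbit_dvd {G Ω : Type*} [Group G] [Finite G] [MulAction G Ω] [Finite Ω]
    [MulAction.IsPretransitive G Ω] {p : ℕ} [Fact p.Prime] (P : Sylow p G) (ω : Ω) {k : ℕ}
    (hk : p ^ k ∣ Nat.card Ω) :
    p ^ k ∣ Nat.card (MulAction.orbit (↥(P : Subgroup G)) ω) := by
  have hG : Nat.card (MulAction.stabilizer G ω) * Nat.card Ω = Nat.card G := by
    rw [← MulAction.index_stabilizer_of_transitive G ω]
    exact Subgroup.card_mul_index _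
  have hP : Nat.card (MulAction.stabilizer (↥(P : Subgroup G)) ω) *
      Nat.card (MulAction.orbit (↥(P : Subgroup G)) ω) = Nat.card (↥(P : Subgroup G)) := by
    rw [Nat.card_coe_set_eq, ← MulAction.index_stabilizer (↥(P : Subgroup G)) ω]
    exact Subgroup.card_mul_index _
  have hdiv : Nat.card (MulAction.stabilizer (↥(P : Subgroup G)) ω) ∣
      Nat.card (MulAction.stabilizer G ω) := by
    let f : (MulAction.stabilizer (↥(P : Subgroup G)) ω) →* (MulAction.stabilizer G ω) :=
      { toFun := fun x => ⟨((x : ↥(P : Subgroup G)) : G), by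
          have := x.2
          rw [MulAction.mem_stabilizer_iff] at this ⊢
          exact this⟩
        map_one' := rfl
        map_mul' := fun x y => rfl }
    refine Subgroup.card_dvd_of_injective f ?_
    intro x y hxy
    have : ((x : ↥(P : Subgroup G)) : G) = ((y : ↥(P : Subgroup G)) : G) :=
      congrArg (fun z : MulAction.stabilizer G ω => (z : G)) hxy
    exact Subtype.ext (Subtype.ext this)
  have hidx : Nat.card (↥(P : Subgroup G)) * (P : Subgroup G).index = Nat.card G :=
    Subgroup.card_mul_index _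
  have hnd : ¬ p ∣ (P : Subgroup G).index := P.not_dvd_index
  obtain ⟨c, hc⟩ := hdiv
  have hpos : 0 < Nat.card (MulAction.stabilizer (↥(P : Subgroup G)) ω) := Nat.card_pos
  have hkey : Nat.card (MulAction.orbit (↥(P : Subgroup G)) ω) * (P : Subgroup G).index
      = c * Nat.card Ω := by
    apply Nat.eq_of_mul_eq_mul_left hpos
    rw [← mul_assoc, hP, hidx, ← mul_assoc, ← hc, hG]
  have hdvd : p ^ k ∣ Nat.card (MulAction.orbit (↥(P : Subgroup G)) ω) * (P : Subgroup G).index := by
    rw [hkey]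
    exact Dvd.dvd.mul_left hk c
  have hcop : Nat.Coprime (p ^ k) (P : Subgroup G).index :=
    Nat.Coprime.pow_left k ((Nat.Prime.coprime_iff_not_dvd Fact.out).2 hnd)
  exact hcop.dvd_of_dvd_mul_right hdvd

theorem sylow_transitive_of_card_pow {G Ω : Type*} [Group G] [Finite G] [MulAction G Ω] [Finite Ω]
    [MulAction.IsPretransitive G Ω] {p : ℕ} [Fact p.Prime] (P : Sylow p G) {k : ℕ}
    (hΩ : Nat.card Ω = p ^ k) (ω ω' : Ω) : ∃ g : ↥(P : Subgroup G), g • ω = ω' := by
  have h1 := sylow_orbit_dvd P ω (k := k) (by rw [hΩ])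
  have h2 : Nat.card (MulAction.orbit (↥(P : Subgroup G)) ω) ≤ Nat.card Ω :=
    Nat.card_le_card_of_injective _ Subtype.val_injective
  have h3 : 0 < Nat.card (MulAction.orbit (↥(P : Subgroup G)) ω) := by
    haveI : Nonempty (MulAction.orbit (↥(P : Subgroup G)) ω) := ⟨⟨ω, MulAction.mem_orbit_self ω⟩⟩
    exact Nat.card_pos
  have h4 : Nat.card (MulAction.orbit (↥(P : Subgroup G)) ω) = Nat.card Ω := by
    rw [hΩ] at h2 ⊢
    exact le_antisymm h2 (Nat.le_of_dvd h3 h1)
  have h5 : MulAction.orbit (↥(P : Subgroup G)) ω = Set.univ := by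
    apply Set.eq_of_subset_of_ncard_le (Set.subset_univ _)
    rw [Set.ncard_univ, ← h4, Nat.card_coe_set_eq]
  have h6 : ω' ∈ MulAction.orbit (↥(P : Subgroup G)) ω := by rw [h5]; trivial
  exact h6

theorem exists_fpf_of_card_pow {G Ω : Type*} [Group G] [Finite G] [MulAction G Ω] [FaithfulSMul G Ω]
    [Finite Ω] [MulAction.IsPretransitive G Ω] {p : ℕ} [hp : Fact p.Prime] {k : ℕ} (hk : 1 ≤ k)
    (hΩ : Nat.card Ω = p ^ k) : ∃ g : G, orderOf g = p ∧ ∀ ω : Ω, g • ω ≠ ω := by
  obtain ⟨P⟩ : Nonempty (Sylow p G) := inferInstance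
  have htr := sylow_transitive_of_card_pow P hΩ
  have h2 : 2 ≤ Nat.card Ω := by
    rw [hΩ]
    calc 2 ≤ p := hp.1.two_le
      _ = p ^ 1 := (pow_one p).symm
      _ ≤ p ^ k := Nat.pow_le_pow_right hp.1.pos hk
  haveI : Nontrivial Ω := (Finite.one_lt_card_iff_nontrivial).1 (by omega)
  obtain ⟨a, b, hab⟩ := exists_pair_ne Ω
  haveI : Nontrivial (↥(P : Subgroup G)) := by
    obtain ⟨g, hg⟩ := htr a b
    refine ⟨g, 1, fun h => hab ?_⟩
    rw [h, one_smul] at hg
    exact hg
  haveI : Nontrivial (Subgroup.center (↥(P : Subgroup G))) := IsPGroup.center_nontrivial P.isPGroup'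
  have hpc : IsPGroup p (Subgroup.center (↥(P : Subgroup G))) := P.isPGroup'.to_subgroup _
  have hdvd : p ∣ Nat.card (Subgroup.center (↥(P : Subgroup G))) := by
    rcases hpc.card_eq_or_dvd with h | h
    · exact absurd h (by
        have : 1 < Nat.card (Subgroup.center (↥(P : Subgroup G))) := Finite.one_lt_card
        omega)
    · exact h
  obtain ⟨z, hz⟩ := exists_prime_orderOf_dvd_card' p hdvd
  refine ⟨((z : ↥(P : Subgroup G)) : G), ?_, ?_⟩
  · rw [Subgroup.orderOf_coe, Subgroup.orderOf_coe, hz]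
  · intro ω hω
    have hall : ∀ ω' : Ω, ((z : ↥(P : Subgroup G)) : G) • ω' = ω' := by
      intro ω'
      obtain ⟨g, hg⟩ := htr ω ω'
      have hcomm : (z : ↥(P : Subgroup G)) * g = g * (z : ↥(P : Subgroup G)) :=
        (Subgroup.mem_center_iff.1 z.2 g).symm
      have hcomm' : ((z : ↥(P : Subgroup G)) : G) * (g : G) = (g : G) * ((z : ↥(P : Subgroup G)) : G) := by
        have := congrArg (fun x : ↥(P : Subgroup G) => (x : G)) hcomm
        simpa using this
      have hg' : (g : G) • ω = ω' := hg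
      rw [← hg', ← mul_smul, hcomm', mul_smul, hω]
    have h1 : ((z : ↥(P : Subgroup G)) : G) = 1 := by
      apply FaithfulSMul.eq_of_smul_eq_smul (α := Ω)
      intro ω'
      rw [hall ω', one_smul]
    have h3 : orderOf (((z : ↥(P : Subgroup G)) : G)) = p := by
      rw [Subgroup.orderOf_coe, Subgroup.orderOf_coe, hz]
    rw [h1, orderOf_one] at h3
    exact hp.1.one_lt.ne h3

theorem exists_fpf_of_card_mul {G Ω : Type*} [Group G] [Finite G] [MulAction G Ω] [FaithfulSMul G Ω]
    [Finite Ω] [MulAction.IsPretransitive G Ω] {p m : ℕ} [hp : Fact p.Prime] (hm : 1 ≤ m)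
    (hmp : m < p) (hΩ : Nat.card Ω = m * p) : ∃ g : G, orderOf g = p ∧ ∀ ω : Ω, g • ω ≠ ω := by
  classical
  obtain ⟨P⟩ : Nonempty (Sylow p G) := inferInstance
  have hpg : IsPGroup p (↥(P : Subgroup G)) := P.isPGroup'
  have hΩpos : 0 < Nat.card Ω := by rw [hΩ]; exact Nat.mul_pos hm hp.1.pos
  haveI : Nonempty Ω := (Nat.card_pos_iff.1 hΩpos).1
  have horb : ∀ ω : Ω, Nat.card (MulAction.orbit (↥(P : Subgroup G)) ω) = p := by
    intro ω
    have h1 := sylow_orbit_dvd P ω (k := 1) (by rw [hΩ, pow_one]; exact Dvd.intro_left m rfl)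
    rw [pow_one] at h1
    obtain ⟨j, hj⟩ := hpg.card_orbit ω
    have h2 : Nat.card (MulAction.orbit (↥(P : Subgroup G)) ω) ≤ Nat.card Ω :=
      Nat.card_le_card_of_injective _ Subtype.val_injective
    have h3 : p ^ j < p ^ 2 := by
      rw [← hj, sq]
      calc Nat.card (MulAction.orbit (↥(P : Subgroup G)) ω) ≤ m * p := hΩ ▸ h2
        _ < p * p := Nat.mul_lt_mul_of_pos_right hmp hp.1.pos
    have h4 : j < 2 := (Nat.pow_lt_pow_iff_right hp.1.one_lt).1 h3
    have h5 : j ≠ 0 := by
      rintro rfl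
      rw [hj, pow_zero] at h1
      exact hp.1.one_lt.ne' (Nat.dvd_one.1 h1)
    have h6 : j = 1 := by omega
    rw [hj, h6, pow_one]
  have hidx : ∀ ω : Ω, (MulAction.stabilizer (↥(P : Subgroup G)) ω).index = p := by
    intro ω
    rw [MulAction.index_stabilizer, ← Nat.card_coe_set_eq, horb ω]
  have hcardP : ∀ ω : Ω, Nat.card (MulAction.stabilizer (↥(P : Subgroup G)) ω) * p
      = Nat.card (↥(P : Subgroup G)) := by
    intro ω
    have h := Subgroup.card_mul_index (MulAction.stabilizer (↥(P : Subgroup G)) ω)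
    rw [hidx ω] at h
    exact h
  have hnormal : ∀ ω : Ω, (MulAction.stabilizer (↥(P : Subgroup G)) ω).Normal := by
    intro ω
    apply Subgroup.normal_of_index_eq_minFac_card
    rw [hidx ω]
    obtain ⟨a, ha⟩ := IsPGroup.iff_card.1 hpg
    have ha0 : a ≠ 0 := by
      rintro rfl
      have := hcardP ω
      rw [ha, pow_zero] at this
      have h1 : p ∣ 1 := Dvd.intro_left _ this
      exact hp.1.one_lt.ne' (Nat.dvd_one.1 h1)
    rw [ha, Nat.Prime.pow_minFac hp.1 ha0]
  haveI := Fintype.ofFinite Ω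
  haveI := Fintype.ofFinite (↥(P : Subgroup G))
  have hfix : ∀ (x : ↥(P : Subgroup G)) (ω : Ω), x • ω = ω →
      p ≤ (Finset.univ.filter (fun ω' : Ω => x • ω' = ω')).card := by
    intro x ω hx
    have hsub : MulAction.orbit (↥(P : Subgroup G)) ω ⊆ {ω' : Ω | x • ω' = ω'} := by
      rintro _ ⟨g, rfl⟩
      have hn := hnormal ω
      have hx' : x ∈ MulAction.stabilizer (↥(P : Subgroup G)) ω := hx
      have h1 : g⁻¹ * x * g⁻¹⁻¹ ∈ MulAction.stabilizer (↥(P : Subgroup G)) ω := hn.conj_mem x hx' g⁻¹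
      rw [inv_inv, MulAction.mem_stabilizer_iff] at h1
      show x • g • ω = g • ω
      calc x • g • ω = g • (g⁻¹ * x * g) • ω := by
            rw [← mul_smul, ← mul_smul]; congr 1; group
        _ = g • ω := by rw [h1]
    have h2 : Nat.card (MulAction.orbit (↥(P : Subgroup G)) ω) ≤ Nat.card {ω' : Ω | x • ω' = ω'} :=
      Nat.card_le_card_of_injective (Set.inclusion hsub) (Set.inclusion_injective hsub)
    rw [horb ω] at h2
    have h3 : Nat.card {ω' : Ω | x • ω' = ω'} = (Finset.univ.filter (fun ω' : Ω => x • ω' = ω')).card := by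
      rw [Nat.card_eq_fintype_card]
      exact Fintype.card_subtype _
    rw [← h3]
    exact h2
  have hdc : ∑ x : ↥(P : Subgroup G), (Finset.univ.filter (fun ω : Ω => x • ω = ω)).card
      = ∑ ω : Ω, (Finset.univ.filter (fun x : ↥(P : Subgroup G) => x • ω = ω)).card :=
    Finset.sum_card_bipartiteAbove_eq_sum_card_bipartiteBelow (fun (x : ↥(P : Subgroup G)) (ω : Ω) => x • ω = ω)
  have hstab : ∀ ω : Ω, (Finset.univ.filter (fun x : ↥(P : Subgroup G) => x • ω = ω)).card
      = Nat.card (MulAction.stabilizer (↥(P : Subgroup G)) ω) := by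
    intro ω
    rw [Nat.card_eq_fintype_card]
    exact (Fintype.card_subtype _).symm
  have hsum : (∑ ω : Ω, (Finset.univ.filter (fun x : ↥(P : Subgroup G) => x • ω = ω)).card) * p
      = (m * p) * Nat.card (↥(P : Subgroup G)) := by
    rw [Finset.sum_mul]
    have : ∀ ω ∈ (Finset.univ : Finset Ω),
        (Finset.univ.filter (fun x : ↥(P : Subgroup G) => x • ω = ω)).card * p
          = Nat.card (↥(P : Subgroup G)) := fun ω _ => by rw [hstab ω, hcardP ω]
    rw [Finset.sum_congr rfl this, Finset.sum_const, Finset.card_univ, smul_eq_mul,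
      ← Nat.card_eq_fintype_card, hΩ]
  have hPpos : 0 < Nat.card (↥(P : Subgroup G)) := Nat.card_pos
  have hex : ∃ x : ↥(P : Subgroup G), ∀ ω : Ω, x • ω ≠ ω := by
    by_contra hcon
    push Not at hcon
    have hge : Nat.card (↥(P : Subgroup G)) * p
        ≤ ∑ x : ↥(P : Subgroup G), (Finset.univ.filter (fun ω : Ω => x • ω = ω)).card := by
      rw [Nat.card_eq_fintype_card, ← Finset.card_univ, ← smul_eq_mul, ← Finset.sum_const]
      refine Finset.sum_le_sum (fun x _ => ?_)
      obtain ⟨ω, hω⟩ := hcon x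
      exact hfix x ω hω
    rw [hdc] at hge
    have h1 : Nat.card (↥(P : Subgroup G)) * p * p ≤ (m * p) * Nat.card (↥(P : Subgroup G)) := by
      rw [← hsum]
      exact Nat.mul_le_mul_right p hge
    have h2 : (p * p) * Nat.card (↥(P : Subgroup G)) ≤ (m * p) * Nat.card (↥(P : Subgroup G)) := by
      calc (p * p) * Nat.card (↥(P : Subgroup G)) = Nat.card (↥(P : Subgroup G)) * p * p := by ring
        _ ≤ _ := h1
    have h3 : p * p ≤ m * p := Nat.le_of_mul_le_mul_right h2 hPpos
    have h4 : p ≤ m := Nat.le_of_mul_le_mul_right h3 hp.1.pos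
    omega
  obtain ⟨x, hx⟩ := hex
  have hxp : ∀ ω : Ω, (x ^ p) • ω = ω := by
    intro ω
    haveI := hnormal ω
    have h := Subgroup.pow_index_mem (MulAction.stabilizer (↥(P : Subgroup G)) ω) x
    rw [hidx ω] at h
    exact h
  have hxG : ((x : ↥(P : Subgroup G)) : G) ^ p = 1 := by
    apply FaithfulSMul.eq_of_smul_eq_smul (α := Ω)
    intro ω
    rw [one_smul]
    exact hxp ω
  refine ⟨(x : G), ?_, fun ω => hx ω⟩
  rcases (Nat.dvd_prime hp.1).1 (orderOf_dvd_of_pow_eq_one hxG) with h | h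
  · exfalso
    rw [orderOf_eq_one_iff] at h
    obtain ⟨ω⟩ := ‹Nonempty Ω›
    apply hx ω
    show (x : G) • ω = ω
    rw [h, one_smul]
  · exact h

end Cfsg.Agent.Helper28
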